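import Mathlib.AlgebraicGeometry.Morphisms.Integral
import Mathlib.AlgebraicGeometry.Morphisms.QuasiCompact
import Mathlib.RingTheory.Ideal.GoingUp
import Mathlib.Topology.KrullDimension

/-!
Elementary topology of scheme morphisms: dimension via points, open maps lift generalizations,
incomparability for integral morphisms.
-/

set_option autoImplicit false
universe u

open AlgebraicGeometry CategoryTheory TopologicalSpace

namespace Groth.Agent.Lib.SchTopo.Basic

/-- Krull dimension of a sober space, computed on points with an order making `≤` generalization. -/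
theorem topologicalKrullDim_eq_krullDim_scheme (X : Scheme.{u}) :
    topologicalKrullDim ↥X = Order.krullDim ↥X :=
  Order.krullDim_eq_of_orderIso
    { irreducibleSetEquivPoints (α := ↥X) |>.toEquiv with
      map_rel_iff' := by
        intro a b
        rw [← (irreducibleSetEquivPoints (α := ↥X)).le_iff_le]
        rfl }

theorem topologicalKrullDim_le_of_specializes_eq {X Y : Scheme.{u}} (f : X ⟶ Y)
    (h : ∀ x y : X, x ⤳ y → f x = f y → x = y) :
    topologicalKrullDim ↥X ≤ topologicalKrullDim ↥Y := by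
  rw [topologicalKrullDim_eq_krullDim_scheme, topologicalKrullDim_eq_krullDim_scheme]
  refine Order.krullDim_le_of_strictMono (fun x => f x) fun a b hab => ?_
  have hab' : b ⤳ a := hab.le
  refine lt_of_le_not_ge (hab'.map f.continuous) fun hge => hab.not_ge ?_
  have := (hab'.map f.continuous).antisymm hge
  exact (h b a hab' this.eq).symm ▸ le_rfl

/-- A chain in `range f` lifts along a specializing map. -/
theorem topologicalKrullDim_le_of_specializingMap {X Y : Scheme.{u}} (f : X ⟶ Y)
    (hf : SpecializingMap f) (hs : Function.Surjective f) :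
    topologicalKrullDim ↥Y ≤ topologicalKrullDim ↥X := by
  rw [topologicalKrullDim_eq_krullDim_scheme, topologicalKrullDim_eq_krullDim_scheme]
  refine iSup_le fun l => ?_
  suffices H : ∃ m : LTSeries X, m.length = l.length ∧ f m.head = l.head by
    obtain ⟨m, hm, -⟩ := H
    exact le_iSup_of_le m (by rw [hm])
  induction l using RelSeries.inductionOn with
  | singleton y =>
    obtain ⟨x, rfl⟩ := hs y
    exact ⟨RelSeries.singleton _ x, rfl, rfl⟩
  | cons l y hy ih =>
    obtain ⟨m, hm, hh⟩ := ih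
    have hy' : y < l.head := hy
    have : f m.head ⤳ y := hh ▸ hy'.le
    obtain ⟨x, hx, hxy⟩ := hf this
    have hlt : x < m.head := by
      refine lt_of_le_not_ge hx fun e => hy'.not_ge ?_
      rw [← hh, ← hxy]
      exact e.map f.continuous
    refine ⟨m.cons x hlt, by simp [hm], by simpa using! hxy⟩

theorem isIntegralHom_eq_of_specializes {X Y : Scheme.{u}} (f : X ⟶ Y) [IsIntegralHom f]
    {x y : X} (h : x ⤳ y) (hxy : f x = f y) : x = y := by
  obtain ⟨_, ⟨V, hV, rfl⟩, hyV, -⟩ :=
    Y.isBasis_affineOpens.exists_subset_of_mem_open (Set.mem_univ (f y)) isOpen_univ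
  replace hV : IsAffineOpen V := hV
  have hU : IsAffineOpen (f ⁻¹ᵁ V) := hV.preimage f
  have hy : y ∈ f ⁻¹ᵁ V := hyV
  have hx : x ∈ f ⁻¹ᵁ V := h.mem_open (f ⁻¹ᵁ V).isOpen hy
  set p := hU.primeIdealOf ⟨x, hx⟩
  set q := hU.primeIdealOf ⟨y, hy⟩
  have hpq : p ≤ q := by
    rw [PrimeSpectrum.le_iff_specializes]
    refine hU.fromSpec.isOpenEmbedding.isInducing.specializes_iff.1 ?_
    simpa [p, q, IsAffineOpen.fromSpec_primeIdealOf] using h
  have hint : (f.appLE V (f ⁻¹ᵁ V) le_rfl).hom.IsIntegral := by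
    rw [Scheme.Hom.appLE_eq_app]; exact f.isIntegral_app V hV
  have hc : p.comap (f.appLE V (f ⁻¹ᵁ V) le_rfl).hom = q.comap (f.appLE V (f ⁻¹ᵁ V) le_rfl).hom := by
    simp only [p, q, IsAffineOpen.comap_primeIdealOf_appLE (U := V) (hU := hV)]
    congr 1
    exact Subtype.ext hxy
  have : p = q := by
    rcases eq_or_lt_of_le hpq with e | hlt
    · exact e
    · let := (f.appLE V (f ⁻¹ᵁ V) le_rfl).hom.toAlgebra
      have : Algebra.IsIntegral Γ(Y, V) Γ(X, f ⁻¹ᵁ V) := ⟨hint⟩
      have h2 := Ideal.IsIntegral.comap_lt_comap (R := Γ(Y, V))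
        (I := p.asIdeal) (J := q.asIdeal) hlt
      exact absurd (congrArg PrimeSpectrum.asIdeal hc) h2.ne
  have := congrArg hU.fromSpec this
  simpa [p, q, IsAffineOpen.fromSpec_primeIdealOf] using this

/-- Open maps of prime spectra lift generalizations. -/
theorem generalizingMap_comap_of_isOpenMap {R S : Type*} [CommRing R] [CommRing S] (f : R →+* S)
    (hf : IsOpenMap (PrimeSpectrum.comap f)) : GeneralizingMap (PrimeSpectrum.comap f) := by
  intro p P hP
  rw [← PrimeSpectrum.le_iff_specializes] at hP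
  let T : Submonoid S := p.asIdeal.primeCompl ⊔ P.asIdeal.primeCompl.map f
  have hd : Disjoint (P.asIdeal.map f : Set S) T := by
    rw [Set.disjoint_left]
    intro z hz hzT
    obtain ⟨s, hs, t', ⟨t, ht, rfl⟩, rfl⟩ := Submonoid.mem_sup.1 hzT
    have hmem : PrimeSpectrum.comap f p ∈ PrimeSpectrum.comap f '' (PrimeSpectrum.basicOpen s : Set _) :=
      ⟨p, hs, rfl⟩
    have hPmem := ((PrimeSpectrum.le_iff_specializes _ _).1 hP).mem_open
      (hf _ (PrimeSpectrum.basicOpen s).isOpen) hmem
    obtain ⟨q, hqs, hq⟩ := hPmem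
    have hle : P.asIdeal.map f ≤ q.asIdeal := by
      rw [Ideal.map_le_iff_le_comap, ← hq]; rfl
    rcases q.2.mem_or_mem (hle hz) with h' | h'
    · exact hqs h'
    · exact ht (by rw [← hq]; exact h')
  obtain ⟨q, hqp, hle, hqd⟩ := Ideal.exists_le_prime_disjoint _ T hd
  refine ⟨⟨q, hqp⟩, (PrimeSpectrum.le_iff_specializes _ _).1 ?_, PrimeSpectrum.ext ?_⟩
  · intro z hz
    by_contra hz'
    exact Set.disjoint_left.1 hqd hz ((le_sup_left : _ ≤ T) hz')
  · refine le_antisymm ?_ (Ideal.map_le_iff_le_comap.1 hle)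
    intro z hz
    by_contra hz'
    exact Set.disjoint_left.1 hqd hz ((le_sup_right : _ ≤ T) ⟨z, hz', rfl⟩)

theorem generalizingMap_of_isOpenMap {X Y : Scheme.{u}} (f : X ⟶ Y) (hf : IsOpenMap f) :
    GeneralizingMap f := by
  intro x y hy
  obtain ⟨_, ⟨V, hV, rfl⟩, hxV, -⟩ :=
    Y.isBasis_affineOpens.exists_subset_of_mem_open (Set.mem_univ (f x)) isOpen_univ
  obtain ⟨_, ⟨U, hU, rfl⟩, hxU, hUV⟩ :=
    X.isBasis_affineOpens.exists_subset_of_mem_open
      (show x ∈ (f ⁻¹ᵁ V : Set X) from hxV) (f ⁻¹ᵁ V).isOpen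
  replace hV : IsAffineOpen V := hV
  replace hU : IsAffineOpen U := hU
  let φ := f.appLE V U hUV
  have hcomm : ∀ p, hV.fromSpec (Spec.map φ p) = f (hU.fromSpec p) := fun p => by
    rw [← Scheme.Hom.comp_apply, ← Scheme.Hom.comp_apply, IsAffineOpen.SpecMap_appLE_fromSpec f hV hU hUV]
  have hop : IsOpenMap (Spec.map φ) := by
    intro s hs
    rw [hV.fromSpec.isOpenEmbedding.isOpen_iff_image_isOpen, ← Set.image_comp]
    have : (hV.fromSpec ∘ Spec.map φ : _ → _) = f ∘ hU.fromSpec := funext hcomm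
    rw [this, Set.image_comp]
    exact hf _ (hU.fromSpec.isOpenEmbedding.isOpenMap _ hs)
  have hgen : GeneralizingMap (PrimeSpectrum.comap φ.hom) :=
    generalizingMap_comap_of_isOpenMap φ.hom hop
  obtain ⟨p, rfl⟩ : x ∈ Set.range hU.fromSpec := by rw [hU.range_fromSpec]; exact hxU
  have hyV : y ∈ Set.range hV.fromSpec := by
    rw [hV.range_fromSpec]; exact hy.mem_open V.isOpen hxV
  obtain ⟨P, rfl⟩ := hyV
  rw [← hcomm, hV.fromSpec.isOpenEmbedding.isInducing.specializes_iff] at hy
  obtain ⟨q, hq, hqP⟩ := hgen hy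
  exact ⟨hU.fromSpec q, hq.map hU.fromSpec.continuous,
    (hcomm q).symm.trans (congrArg hV.fromSpec hqP)⟩

end Groth.Agent.Lib.SchTopo.Basic
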