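import Groth.Agent.Lib.SchTopo.Basic
import Mathlib.AlgebraicGeometry.Morphisms.UnderlyingMap

/-! Closure of the image of a quasi-compact morphism; generic points. -/

set_option autoImplicit false
universe u

open AlgebraicGeometry CategoryTheory TopologicalSpace

namespace Groth.Agent.Lib.SchTopo.Closure

theorem exists_specializes_of_mem_closure_range {X Y : Scheme.{u}} (f : X ⟶ Y) [QuasiCompact f]
    {y : Y} (hy : y ∈ closure (Set.range f)) : ∃ x : X, f x ⤳ y := by
  obtain ⟨_, ⟨V, hV, rfl⟩, hyV, -⟩ :=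
    Y.isBasis_affineOpens.exists_subset_of_mem_open (Set.mem_univ y) isOpen_univ
  replace hV : IsAffineOpen V := hV
  have hc : IsCompact ((f ⁻¹ᵁ V : X.Opens) : Set X) := f.isCompact_preimage hV.isCompact
  obtain ⟨R, g, hg⟩ := isCompact_iff_exists.1 hc
  have hgf : Set.range (g ≫ f) ⊆ (V : Set Y) := by
    rintro _ ⟨a, rfl⟩
    have : g a ∈ Set.range g := ⟨a, rfl⟩
    rw [hg] at this
    exact this
  let h : Spec R ⟶ Spec Γ(Y, V) := IsOpenImmersion.lift hV.fromSpec (g ≫ f) (by rwa [hV.range_fromSpec])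
  have hh : h ≫ hV.fromSpec = g ≫ f := IsOpenImmersion.lift_fac _ _ _
  obtain ⟨φ, hφ⟩ := Spec.map_surjective h
  obtain ⟨P, rfl⟩ : y ∈ Set.range hV.fromSpec := by rw [hV.range_fromSpec]; exact hyV
  have hP : P ∈ closure (Set.range (PrimeSpectrum.comap φ.hom)) := by
    refine mem_closure_iff.2 fun o ho hPo => ?_
    obtain ⟨_, ⟨b, hbo, rfl⟩, ⟨x, hx⟩⟩ := mem_closure_iff.1 hy _
      (hV.fromSpec.isOpenEmbedding.isOpenMap o ho) ⟨P, hPo, rfl⟩
    have hxV : x ∈ (f ⁻¹ᵁ V : Set X) := by
      change f x ∈ V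
      rw [hx, ← SetLike.mem_coe, ← hV.range_fromSpec]
      exact ⟨b, rfl⟩
    rw [← hg] at hxV
    obtain ⟨a, rfl⟩ := hxV
    refine ⟨b, hbo, a, hV.fromSpec.isOpenEmbedding.injective ?_⟩
    have : hV.fromSpec (h a) = f (g a) := by
      rw [← Scheme.Hom.comp_apply, hh, Scheme.Hom.comp_apply]
    rw [← hx, ← this, ← hφ]
    rfl
  rw [PrimeSpectrum.closure_range_comap] at hP
  have := P.2
  obtain ⟨p, hp, hpP⟩ := Ideal.exists_minimalPrimes_le (J := P.asIdeal)
    ((PrimeSpectrum.mem_zeroLocus _ _).1 hP)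
  rw [RingHom.ker_eq_comap_bot] at hp
  obtain ⟨q, hq, -, rfl⟩ := Ideal.exists_comap_eq_of_mem_minimalPrimes φ.hom p hp
  have key : ∀ a : Spec R, hV.fromSpec (Spec.map φ a) = f (g a) := fun a => by
    rw [← Scheme.Hom.comp_apply, hφ, hh, Scheme.Hom.comp_apply]
  refine ⟨g ⟨q, hq⟩, (specializes_of_eq (key ⟨q, hq⟩).symm).trans (Specializes.map ?_ hV.fromSpec.continuous)⟩
  exact (PrimeSpectrum.le_iff_specializes _ P).1 hpP

/-- Maximal points: generic points of irreducible components. -/
theorem eq_of_specializes_of_closure_mem {X : Type*} [TopologicalSpace X] [T0Space X] {x y : X}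
    (hy : closure {y} ∈ irreducibleComponents X) (h : x ⤳ y) : x = y :=
  (h.antisymm (specializes_iff_mem_closure.2
    (hy.2 isIrreducible_singleton.closure (specializes_iff_closure_subset.1 h)
      (subset_closure rfl)))).eq

theorem mem_range_of_mem_closure_range {X Y : Scheme.{u}} (f : X ⟶ Y) [QuasiCompact f]
    {y : Y} (hy : closure {y} ∈ irreducibleComponents ↥Y) (h : y ∈ closure (Set.range f)) :
    y ∈ Set.range f := by
  obtain ⟨x, hx⟩ := exists_specializes_of_mem_closure_range f h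
  exact ⟨x, eq_of_specializes_of_closure_mem hy hx⟩

theorem exists_maximal_specializes (X : Scheme.{u}) (x : X) :
    ∃ η : X, closure {η} ∈ irreducibleComponents ↥X ∧ η ⤳ x := by
  have h1 := irreducibleComponent_mem_irreducibleComponents x
  have h2 : closure {h1.1.genericPoint} = irreducibleComponent x := by
    rw [h1.1.closure_genericPoint (isClosed_of_mem_irreducibleComponents _ h1)]
  exact ⟨h1.1.genericPoint, by rw [h2]; exact h1,
    specializes_iff_mem_closure.2 (by rw [h2]; exact mem_irreducibleComponent)⟩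

theorem maximal_of_forall_eq {X : Scheme.{u}} {x : X} (h : ∀ y : X, y ⤳ x → y = x) :
    closure {x} ∈ irreducibleComponents ↥X := by
  obtain ⟨η, hη, hx⟩ := exists_maximal_specializes X x
  rwa [h η hx] at hη

end Groth.Agent.Lib.SchTopo.Closure
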